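import Groth.Agent.S13063
import Groth.Agent.Zeta.K656.ArithFin
import Groth.Agent.VarietyB.GabberConn
import Groth.Agent.JacVar.K533.CurveBasic
import Groth.Agent.Variety.K658.RelDimComp
import Groth.Agent.Sga4B.DualVGeom

/-!
# Closed points of degree prime to a given number (Lang–Weil)
-/

set_option autoImplicit false
universe u
open CategoryTheory CategoryTheory.Limits AlgebraicGeometry Opposite Polynomial

namespace K989.NodeA

section Comp

variable {k : Type u} [Field k] {X : Scheme.{u}} (f : X ⟶ Spec (CommRingCat.of k))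

/-- The projection from the geometric fibre. -/
noncomputable abbrev prj : pullback f (Spec.map (CommRingCat.ofHom (algebraMap k (AlgebraicClosure k)))) ⟶ X :=
  pullback.fst f (Spec.map (CommRingCat.ofHom (algebraMap k (AlgebraicClosure k))))

theorem natCard_comp [GeometricallyIrreducible f] :
    Nat.card (irreducibleComponents ((prj f).base ⁻¹' (Set.univ : Set X))) = 1 := by
  have h1 : IrreducibleSpace ↥(pullback f (Spec.map (CommRingCat.ofHom (algebraMap k (AlgebraicClosure k))))) :=
    inferInstance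
  have h2 : IrreducibleSpace ↥((prj f).base ⁻¹' (Set.univ : Set X)) := by
    rw [Set.preimage_univ]
    exact Function.Surjective.irreducibleSpace (Homeomorph.Set.univ _).symm.continuous
      (Homeomorph.Set.univ _).symm.surjective
  have h3 : irreducibleComponents ↥((prj f).base ⁻¹' (Set.univ : Set X)) = {Set.univ} :=
    irreducibleComponents_eq_singleton
  rw [h3]
  exact Nat.card_unique

theorem finsum_eq [IrreducibleSpace X] [GeometricallyIrreducible f] (r : ℕ) (hr : topologicalKrullDim X = r) (e : ℕ) :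
    (∑ᶠ (Z : Set X) (_ : Z ∈ irreducibleComponents X ∧ topologicalKrullDim Z = r ∧
            Nat.card (irreducibleComponents ((prj f).base ⁻¹' Z)) ∣ e),
          Nat.card (irreducibleComponents ((prj f).base ⁻¹' Z))) = 1 := by
  classical
  have hc : irreducibleComponents X = {Set.univ} := irreducibleComponents_eq_singleton
  rw [finsum_eq_single _ Set.univ]
  · rw [finsum_eq_if, if_pos, natCard_comp f]
    refine ⟨by rw [hc]; rfl, ?_, by rw [natCard_comp f]; exact one_dvd e⟩
    rw [← hr]
    exact (Homeomorph.Set.univ X).isHomeomorph.topologicalKrullDim_eq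
  · intro Z hZ
    rw [finsum_eq_if, if_neg]
    rintro ⟨h, -⟩
    rw [hc] at h
    exact hZ h

end Comp

theorem exists_large (q : ℕ) (hq : 1 < q) (r : ℕ) (α : ℝ) : ∃ e₀ : ℕ, ∀ e : ℕ, e₀ ≤ e →
    α * (q : ℝ) ^ ((e : ℝ) * ((r : ℝ) - 1 / 2)) < (q : ℝ) ^ (e * r) := by
  have hq0 : (0 : ℝ) < q := by positivity
  have hq1 : (1 : ℝ) < Real.sqrt q := by
    rw [Real.lt_sqrt (by norm_num)]
    rw [one_pow]
    exact_mod_cast hq
  obtain ⟨e₀, he₀⟩ := pow_unbounded_of_one_lt α hq1
  refine ⟨e₀, fun e he => ?_⟩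
  have h1 : α < (Real.sqrt q) ^ e := he₀.trans_le (pow_le_pow_right₀ hq1.le he)
  have h2 : ((q : ℝ) ^ (e * r) : ℝ) = (Real.sqrt q) ^ e * (q : ℝ) ^ ((e : ℝ) * ((r : ℝ) - 1 / 2)) := by
    rw [← Real.rpow_natCast (q : ℝ) (e * r), ← Real.rpow_natCast (Real.sqrt q) e, Real.sqrt_eq_rpow, ← Real.rpow_mul hq0.le,
      ← Real.rpow_add hq0]
    congr 1
    push_cast
    ring
  rw [h2]
  exact mul_lt_mul_of_pos_right h1 (Real.rpow_pos_of_pos hq0 _)

/-- Lang–Weil: `N_e > 0` for `e` large. -/
theorem nPts_pos {k : Type u} [Field k] [Finite k] {X : Scheme.{u}} (f : X ⟶ Spec (CommRingCat.of k))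
    [LocallyOfFiniteType f] [QuasiCompact f] [IrreducibleSpace X] [GeometricallyIrreducible f] (r : ℕ)
    (hr : topologicalKrullDim X = r) : ∃ e₀ : ℕ, ∀ e : ℕ, e₀ ≤ e → 1 ≤ e → 0 < Zeta.nPts f e := by
  obtain ⟨α, α', -, -, h⟩ := Groth.Agent.S13063.result f r hr
  obtain ⟨e₀, he₀⟩ := exists_large (Nat.card k) Finite.one_lt_card r α
  refine ⟨e₀, fun e he h1 => ?_⟩
  have h2 := (h e h1).1
  have h3 := finsum_eq f r hr e
  rw [show (∑ᶠ (Z : Set X) (_ : Z ∈ irreducibleComponents X ∧ topologicalKrullDim Z = r ∧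
            Nat.card (irreducibleComponents ((pullback.fst f (Spec.map (CommRingCat.ofHom
              (algebraMap k (AlgebraicClosure k))))).base ⁻¹' Z)) ∣ e),
          Nat.card (irreducibleComponents ((pullback.fst f (Spec.map (CommRingCat.ofHom
              (algebraMap k (AlgebraicClosure k))))).base ⁻¹' Z))) = 1 from h3] at h2
  have h4 := h2 Nat.one_pos
  by_contra h5
  have h6 : Zeta.nPts f e = 0 := by omega
  rw [h6] at h4
  have h7 := he₀ e he
  rw [Nat.cast_zero, Nat.cast_one, one_mul, zero_sub, abs_neg, abs_of_pos (by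
    have : (0 : ℝ) < Nat.card k := by exact_mod_cast Nat.card_pos
    positivity)] at h4
  exact absurd h4 (not_le.mpr h7)

theorem etale_specMap (A B : Type u) [Field A] [Field B] [Algebra A B] [FiniteDimensional A B]
    [Algebra.IsSeparable A B] : Etale (Spec.map (CommRingCat.ofHom (algebraMap A B))) := by
  have h1 : Algebra.FormallyEtale A B := Algebra.FormallyEtale.of_isSeparable A B
  have h2 : Algebra.FinitePresentation A B :=
    Algebra.FinitePresentation.of_finiteType.1 (Module.Finite.finiteType B)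
  have h3 : Algebra.Etale A B := ⟨h1, h2⟩
  rw [HasRingHomProperty.Spec_iff (P := @AlgebraicGeometry.Etale)]
  change RingHom.Etale (algebraMap A B)
  rwa [RingHom.etale_algebraMap]

/-- NODE A -/
theorem exists_closed_point (k : Type u) [Field k] [Finite k] (X : Scheme.{u}) (f : X ⟶ Spec (.of k))
    [AlgebraicGeometry.IsIntegral X] [IsProper f] (m : ℕ) [SmoothOfRelativeDimension m f] (N : ℕ) (hN : 0 < N) :
    ∃ (x : X) (n : ℕ), IsClosed ({x} : Set X) ∧ n.Coprime N ∧
      Nat.card (X.residueField x) = Nat.card Γ(X, ⊤) ^ n := by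
  have hsm : Smooth f := SmoothOfRelativeDimension.smooth m f
  -- `f` comes from a ring homomorphism
  obtain ⟨ρ, hρ, hρf⟩ : ∃ ρ : k →+* Γ(X, ⊤), f = X.toSpecΓ ≫ Spec.map (CommRingCat.ofHom ρ) ∧ ρ.Finite := by
    refine ⟨((Scheme.ΓSpecIso (CommRingCat.of k)).inv ≫ f.appTop).hom, ?_, ?_⟩
    · rw [CommRingCat.ofHom_hom, Spec.map_comp, ← Category.assoc, ← Scheme.toSpecΓ_naturality,
        Category.assoc, ← Scheme.isoSpec_Spec_inv, Scheme.toSpecΓ_isoSpec_inv, Category.comp_id]
    · rw [CommRingCat.hom_comp]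
      exact (finite_appTop_of_universallyClosed k f).comp
        (RingHom.Finite.of_surjective _ (ConcreteCategory.bijective_of_isIso (Scheme.ΓSpecIso (CommRingCat.of k)).inv).2)
  let : Algebra k Γ(X, ⊤) := ρ.toAlgebra
  have hfin : Module.Finite k Γ(X, ⊤) := hρf
  have hnt : Nontrivial Γ(X, ⊤) := by
    have : Nonempty (⊤ : X.Opens) := ⟨⟨Classical.arbitrary X, trivial⟩⟩
    infer_instance
  obtain ⟨L, _, _, φ, hsep, hcl⟩ := Groth.Agent.VarietyB.SepInRing.exists_sepClosure_in (k := k)
    (A := Γ(X, ⊤)) (Groth.Agent.VarietyB.GabberConn.eq_zero_or_one_of_idem X)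
  let g : X ⟶ Spec (CommRingCat.of L) := X.toSpecΓ ≫ Spec.map (CommRingCat.ofHom (φ : L →+* Γ(X, ⊤)))
  have hg : GeometricallyConnected g := Groth.Agent.VarietyB.GabberConn.geometricallyConnected X L φ hcl
  have hgf : g ≫ Spec.map (CommRingCat.ofHom (algebraMap k L)) = f := by
    rw [hρ]
    change (X.toSpecΓ ≫ Spec.map _) ≫ Spec.map _ = _
    rw [Category.assoc, ← Spec.map_comp, ← CommRingCat.ofHom_comp]
    congr 3
    ext a
    exact φ.commutes a
  have hLfin : Module.Finite k L := Module.Finite.of_injective φ.toLinearMap φ.injective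
  have hL : Finite L := Module.finite_of_finite k
  have het : Etale (Spec.map (CommRingCat.ofHom (algebraMap k L))) := etale_specMap k L
  have hgs : Smooth (g ≫ Spec.map (CommRingCat.ofHom (algebraMap k L))) := by
    rw [hgf]
    exact hsm
  have hgsm : Smooth g := Groth.Agent.Sga4B.DualVGeom.smooth_of_comp g (Spec.map (CommRingCat.ofHom (algebraMap k L)))
  have hgp' : IsProper (g ≫ Spec.map (CommRingCat.ofHom (algebraMap k L))) := by
    rw [hgf]
    infer_instance
  have hgp : IsProper g := IsProper.of_comp g (Spec.map (CommRingCat.ofHom (algebraMap k L)))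
  have hgi : GeometricallyIrreducible g := K533.CurveBasic.geometricallyIrreducible g
  have hr : topologicalKrullDim X = m := K658.RelDimComp.topologicalKrullDim_eq m f
  obtain ⟨e₀, he⟩ := nPts_pos g m hr
  obtain ⟨p, hp, hpp⟩ := Nat.exists_infinite_primes (max e₀ (N + 1))
  have h1 : 0 < Zeta.nPts g p := he p ((le_max_left _ _).trans hp) hpp.one_lt.le
  unfold Zeta.nPts at h1
  obtain ⟨d, hd, hd'⟩ := Finset.exists_ne_zero_of_sum_ne_zero h1.ne'
  have hd1 : Zeta.degCount g d ≠ 0 := fun h => hd' (by rw [h, mul_zero])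
  unfold Zeta.degCount at hd1
  obtain ⟨⟨x, hx, hdeg⟩⟩ := (Nat.card_pos_iff.mp (Nat.pos_of_ne_zero hd1)).1
  have hdvd : d ∣ p := Nat.dvd_of_mem_divisors hd
  refine ⟨x, d, hx, ?_, ?_⟩
  · rcases (Nat.dvd_prime hpp).mp hdvd with h | h
    · rw [h]
      exact Nat.coprime_one_left N
    · rw [h]
      refine (Nat.Prime.coprime_iff_not_dvd hpp).mpr fun hdN => ?_
      have h2 := Nat.le_of_dvd hN hdN
      have h3 := (le_max_right e₀ (N + 1)).trans hp
      omega
  · have hs : Function.Surjective φ := by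
      intro s
      have halg : IsIntegral k s := Algebra.IsIntegral.isIntegral s
      have hps : (minpoly k s).Separable := PerfectField.separable_of_irreducible (minpoly.irreducible halg)
      obtain ⟨y, hy⟩ := hcl s ((minpoly k s).map (algebraMap k L)) (hps.map) (by
        rw [eval₂_map]
        have h4 : (φ : L →+* Γ(X, ⊤)).comp (algebraMap k L) = algebraMap k Γ(X, ⊤) := φ.comp_algebraMap
        rw [h4]
        exact minpoly.aeval k s)
      exact ⟨y, hy⟩
    have hcard : Nat.card L = Nat.card Γ(X, ⊤) := Nat.card_congr (Equiv.ofBijective φ ⟨φ.injective, hs⟩)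
    rw [← hcard, ← hdeg]
    exact K656.ArithFin.card_residueField g x hx

end K989.NodeA
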